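import Mathlib

/-!
Schemes of dimension zero: T1, and (quasi-separated case) compact opens are clopen, T2, totally separated.
-/

universe u

open CategoryTheory AlgebraicGeometry TopologicalSpace

namespace Dim0Sch

theorem t1Space_of_topologicalKrullDim_le_zero {X : Type*} [TopologicalSpace X] [T0Space X]
    (h : topologicalKrullDim X ≤ 0) : T1Space X := by
  refine ⟨fun x => ?_⟩
  rw [← closure_subset_iff_isClosed]
  intro y hy
  let cl : X → IrreducibleCloseds X := fun z => ⟨closure {z}, isIrreducible_singleton.closure, isClosed_closure⟩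
  have hle : cl y ≤ cl x := closure_minimal (Set.singleton_subset_iff.mpr hy) isClosed_closure
  have h2 : closure {y} = closure {x} := by
    by_contra hne
    have hlt : cl y < cl x := lt_of_le_of_ne hle fun e => hne (congrArg IrreducibleCloseds.carrier e)
    exact hlt.not_ge ((Order.krullDim_nonpos_iff_forall_isMax.mp h) (cl y) hlt.le)
  exact (inseparable_iff_closure_eq.mpr h2).eq

theorem t2Space_primeSpectrum {R : Type u} [CommRing R] [T1Space (PrimeSpectrum R)] :
    T2Space (PrimeSpectrum R) := by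
  refine ⟨fun x y hxy => ?_⟩
  have hmax : ∀ z : PrimeSpectrum R, z.asIdeal.IsMaximal := fun z =>
    (PrimeSpectrum.isClosed_singleton_iff_isMaximal z).mp isClosed_singleton
  obtain ⟨f, hfx, hfy⟩ : ∃ f, f ∈ x.asIdeal ∧ f ∉ y.asIdeal := by
    by_contra h; push_neg at h
    exact hxy (PrimeSpectrum.ext ((hmax x).eq_of_le y.isPrime.ne_top h))
  let S : Submonoid R := x.asIdeal.primeCompl ⊔ Submonoid.powers f
  by_cases hS : (0 : R) ∈ S
  · obtain ⟨s, hs, t, ⟨n, rfl⟩, hst⟩ := Submonoid.mem_sup.mp hS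
    refine ⟨PrimeSpectrum.basicOpen s, PrimeSpectrum.basicOpen f, PrimeSpectrum.isOpen_basicOpen,
      PrimeSpectrum.isOpen_basicOpen, hs, hfy, Set.disjoint_left.mpr fun z hz hz' => ?_⟩
    have : s * f ^ n ∈ z.asIdeal := by rw [hst]; exact z.asIdeal.zero_mem
    rcases z.isPrime.mem_or_mem this with h | h
    · exact hz h
    · exact hz' (z.isPrime.mem_of_pow_mem n h)
  · exfalso
    obtain ⟨p, hp, -, hd⟩ := Ideal.exists_le_prime_disjoint (⊥ : Ideal R) S (by
      rw [Set.disjoint_left]; intro z hz; rw [SetLike.mem_coe, Ideal.mem_bot] at hz; subst hz; exact hS)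
    have hle : p ≤ x.asIdeal := fun z hz => by
      by_contra h
      exact Set.disjoint_left.mp hd hz (Submonoid.mem_sup_left h)
    have := (hmax ⟨p, hp⟩).eq_of_le x.isPrime.ne_top hle
    exact Set.disjoint_left.mp hd (show f ∈ p by have e : p = x.asIdeal := this; rw [e]; exact hfx) (Submonoid.mem_sup_right (Submonoid.mem_powers f))

variable {X : Scheme.{u}}

theorem t2Space_affineOpen [T1Space X] {U : X.Opens} (hU : IsAffineOpen U) : T2Space {x // x ∈ U} := by
  let e := hU.isoSpec.hom.homeomorph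
  haveI : T1Space U.toScheme := inferInstanceAs (T1Space {x // x ∈ U})
  haveI : T1Space (PrimeSpectrum Γ(X, U)) := e.t1Space
  haveI : T2Space (Spec Γ(X, U)) := t2Space_primeSpectrum (R := Γ(X, U))
  exact e.symm.t2Space

theorem isClopen_of_isCompact [T1Space X] [QuasiSeparatedSpace X] (U : X.Opens)
    (hU : IsCompact (U : Set X)) : IsClopen (U : Set X) := by
  refine ⟨?_, U.isOpen⟩
  rw [← isOpen_compl_iff, isOpen_iff_forall_mem_open]
  intro y hy
  obtain ⟨_, ⟨V, hV, rfl⟩, hyV, -⟩ := X.isBasis_affineOpens.exists_subset_of_mem_open (Set.mem_univ y) isOpen_univ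
  have hc : IsCompact ((U : Set X) ∩ V) :=
    QuasiSeparatedSpace.inter_isCompact _ _ U.isOpen hU V.isOpen hV.isCompact
  haveI : T2Space {x // x ∈ V} := t2Space_affineOpen (U := V) hV
  have hc' : IsCompact ((Subtype.val : V → X) ⁻¹' (U : Set X)) := by
    rw [Topology.IsInducing.subtypeVal.isCompact_iff]
    erw [Set.image_preimage_eq_inter_range, Subtype.range_coe]
    exact hc
  refine ⟨Subtype.val '' ((Subtype.val : V → X) ⁻¹' (U : Set X))ᶜ, ?_,
    V.isOpen.isOpenEmbedding_subtypeVal.isOpenMap _ hc'.isClosed.isOpen_compl, ⟨⟨y, hyV⟩, hy, rfl⟩⟩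
  rintro _ ⟨z, hz, rfl⟩
  exact hz

theorem totallySeparatedSpace [T1Space X] [QuasiSeparatedSpace X] : TotallySeparatedSpace X := by
  refine totallySeparatedSpace_iff_exists_isClopen.mpr fun x y hxy => ?_
  obtain ⟨_, ⟨V, hV, rfl⟩, hxV, hVy⟩ := X.isBasis_affineOpens.exists_subset_of_mem_open
    (show x ∈ ({y} : Set X)ᶜ from hxy) isClosed_singleton.isOpen_compl
  exact ⟨V, isClopen_of_isCompact V hV.isCompact, hxV, fun h => hVy h rfl⟩

theorem isAffineOpen_of_isCompact [T1Space X] [QuasiSeparatedSpace X] (U : X.Opens)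
    (hU : IsCompact (U : Set X)) : IsAffineOpen U := by
  refine compact_open_induction_on U hU (isAffineOpen_bot X) fun S hS W hP => ?_
  let W' : X.Opens := ⟨(W.1 : Set X) \ S, W.1.isOpen.sdiff (isClopen_of_isCompact S hS).isClosed⟩
  have hle : W' ≤ W.1 := fun z hz => hz.1
  haveI : IsAffine W.1.toScheme := W.2
  have hr : IsClosed (Set.range (X.homOfLE hle).base) := by
    have h1 : Set.range (X.homOfLE hle).base = ((Subtype.val : W.1 → X) ⁻¹' (S : Set X))ᶜ := by
      ext z
      constructor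
      · rintro ⟨w, rfl⟩
        intro h
        exact w.2.2 ((Scheme.homOfLE_apply hle w) ▸ (show ((X.homOfLE hle) w).1 ∈ (S : Set X) from h))
      · intro hz
        exact ⟨⟨z.1, z.2, hz⟩, Subtype.ext (by simp [Scheme.homOfLE_apply])⟩
    rw [h1]
    exact (S.isOpen.preimage continuous_subtype_val).isClosed_compl
  haveI := isAffineHom_of_isInducing (X.homOfLE hle) (X.homOfLE hle).isOpenEmbedding.isInducing hr
  have hW' : IsAffineOpen W' := isAffine_of_isAffineHom (X.homOfLE hle)
  have he : S ⊔ W.1 = S ⊔ W' := by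
    ext z
    simp only [Opens.coe_sup, Set.mem_union]
    exact ⟨fun h => by by_cases hz : z ∈ (S : Set X); exacts [Or.inl hz, Or.inr ⟨h.resolve_left hz, hz⟩],
      fun h => h.imp id fun h => h.1⟩
  rw [he]
  refine hP.sup_of_disjoint hW' ?_
  rw [disjoint_iff, eq_bot_iff]
  exact fun z hz => hz.2.2 hz.1

end Dim0Sch
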